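import Mathlib
import Cfsg.Agent.Linear.GLTwo
import Cfsg.Agent.Linear.Orders
import Cfsg.Agent.Elusive.TwoByTwo

/-!
Elements with square `-1` in `SL_2(q)`, `q` odd; Klein four-subgroups of `PSL_2(q)`: their number,
normalisers and conjugacy classes.
-/

set_option autoImplicit false
set_option linter.unusedSectionVars false

namespace Cfsg.Agent.PSLTwo25

open Matrix
open scoped MatrixGroups

variable {F : Type*} [Field F]

local notation "S" => Matrix.SpecialLinearGroup (Fin 2) F
local notation "Mat" => Matrix (Fin 2) (Fin 2) F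
local notation "G" => Matrix.ProjectiveSpecialLinearGroup (Fin 2) F

/-- The element `-1` of `SL_2`. -/
def negS : S := ⟨-1, by simp [Matrix.det_neg]⟩

theorem negS_coe : ((negS : S) : Mat) = -1 := rfl

theorem negS_mul (g : S) : ((negS * g : S) : Mat) = -(g : Mat) := by
  rw [Matrix.SpecialLinearGroup.coe_mul, negS_coe, neg_one_mul]

theorem mul_negS (g : S) : g * negS = negS * g := by
  apply Subtype.ext
  rw [negS_mul, Matrix.SpecialLinearGroup.coe_mul, negS_coe, mul_neg_one]

theorem negS_mem_center : (negS : S) ∈ Subgroup.center S :=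
  Subgroup.mem_center_iff.2 mul_negS

theorem negS_sq : (negS : S) * negS = 1 := by
  apply Subtype.ext; rw [negS_mul, negS_coe, neg_neg, Matrix.SpecialLinearGroup.coe_one]

theorem negS_ne_one (h2 : (2 : F) ≠ 0) : (negS : S) ≠ 1 := fun h => by
  have h1 := congrArg (fun g : S => (g : Mat) 0 0) h
  simp [negS_coe] at h1
  exact h2 (by linear_combination -h1)

theorem negS_mul_ne (h2 : (2 : F) ≠ 0) (g : S) : negS * g ≠ g := fun h =>
  negS_ne_one h2 (mul_eq_right.1 h)

theorem eq_one_or_negS (h2 : (2 : F) ≠ 0) {g : S} (h : g * g = 1) : g = 1 ∨ g = negS := by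
  by_cases h1 : g = 1
  · exact .inl h1
  · exact .inr (Subtype.ext (Linear.eq_neg_one_of_mul_self h2 h1 h))

theorem mem_center_S {g : S} : g ∈ Subgroup.center S ↔ g = 1 ∨ g = negS := by
  constructor
  · intro h
    obtain ⟨r, hr, hg⟩ := Matrix.SpecialLinearGroup.mem_center_iff.1 h
    rw [Fintype.card_fin, sq, mul_self_eq_one_iff] at hr
    rcases hr with rfl | rfl
    · left; apply Subtype.ext; rw [← hg, map_one, Matrix.SpecialLinearGroup.coe_one]
    · right; apply Subtype.ext; rw [← hg, map_neg, map_one, negS_coe]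
  · rintro (rfl | rfl)
    · exact one_mem _
    · exact negS_mem_center

theorem mk_eq_iff {a b : S} : (QuotientGroup.mk a : G) = QuotientGroup.mk b ↔ b = a ∨ b = negS * a := by
  rw [QuotientGroup.eq, mem_center_S, inv_mul_eq_one, inv_mul_eq_iff_eq_mul, mul_negS]
  exact or_congr_left eq_comm

theorem mk_eq_one {a : S} : (QuotientGroup.mk a : G) = 1 ↔ a = 1 ∨ a = negS := by
  rw [QuotientGroup.eq_one_iff, mem_center_S]

variable (F) in
/-- Elements of `SL_2` with square `-1`. -/
abbrev JSet : Type _ := {a : S // a * a = negS}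

theorem negS_mul_mem {a : S} (ha : a * a = negS) : (negS * a) * (negS * a) = negS := by
  rw [mul_assoc, ← mul_assoc a, mul_negS, mul_assoc negS a a, ← mul_assoc, negS_sq, one_mul, ha]

theorem J_nonscalar (h2 : (2 : F) ≠ 0) {a : S} (ha : a * a = negS) : a ≠ 1 ∧ a ≠ negS := by
  constructor <;> rintro rfl
  · exact negS_ne_one h2 (by rw [← ha, one_mul])
  · exact negS_ne_one h2 (ha.symm.trans negS_sq)

theorem trace_zero_iff (h2 : (2 : F) ≠ 0) {a : S} :
    a * a = negS ↔ (a : Mat) 0 0 + (a : Mat) 1 1 = 0 := by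
  have hm := Elusive.mul_self_two (a : Mat)
  rw [a.2, one_smul] at hm
  constructor
  · intro h
    have h' : ((a * a : S) : Mat) = -1 := by rw [h]; rfl
    rw [Matrix.SpecialLinearGroup.coe_mul, hm, sub_eq_neg_self, smul_eq_zero] at h'
    exact h'.resolve_right fun h0 => one_ne_zero (α := F) (by rw [← a.2, h0]; simp)
  · intro h
    apply Subtype.ext
    rw [Matrix.SpecialLinearGroup.coe_mul, hm, h, zero_smul, zero_sub, negS_coe]

theorem exists_conj_J [Fintype F] (h2 : (2 : F) ≠ 0) {a b : S} (ha : a * a = negS) (hb : b * b = negS) :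
    ∃ g : S, g * a * g⁻¹ = b := by
  have ta := (trace_zero_iff h2).1 ha
  have tb := (trace_zero_iff h2).1 hb
  obtain ⟨g, hg, he⟩ := Elusive.exists_conj_of_trace h2 b.2 a.2 (by rw [ta, tb]) (by
    rw [tb, zero_mul]
    intro h
    exact mul_ne_zero h2 h2 (by linear_combination -h))
  obtain ⟨gS, rfl⟩ : ∃ x : S, (x : Mat) = g := ⟨⟨g, hg⟩, rfl⟩
  refine ⟨gS, mul_inv_eq_of_eq_mul ?_⟩
  apply Subtype.ext
  rw [Matrix.SpecialLinearGroup.coe_mul, Matrix.SpecialLinearGroup.coe_mul]
  exact he.symm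

theorem exists_J [Fintype F] : ∃ a : S, a * a = negS :=
  ⟨⟨!![0, -1; 1, 0], by simp [Matrix.det_fin_two]⟩, by
    apply Subtype.ext
    show (!![0, -1; 1, 0] : Mat) * !![0, -1; 1, 0] = -1
    ext i j; fin_cases i <;> fin_cases j <;> simp⟩

theorem conj_mem_J {a : S} (ha : a * a = negS) (g : S) : (g * a * g⁻¹) * (g * a * g⁻¹) = negS := by
  rw [show (g * a * g⁻¹) * (g * a * g⁻¹) = g * (a * a) * g⁻¹ by group, ha, mul_negS, mul_assoc,
    mul_inv_cancel, mul_one]

theorem card_J_mul_centralizer [Fintype F] (h2 : (2 : F) ≠ 0) {a : S} (ha : a * a = negS) :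
    Nat.card (JSet F) * Nat.card {c : S // c * a = a * c} = Nat.card S := by
  choose h hh using fun b : JSet F => exists_conj_J h2 ha b.2
  have e : JSet F × {c : S // c * a = a * c} ≃ S := by
    refine Equiv.ofBijective (fun p => h p.1 * (p.2 : S)) ⟨?_, fun g => ?_⟩
    · rintro ⟨b, c, hc⟩ ⟨b', c', hc'⟩ he
      simp only at he
      have hb : ∀ (d : JSet F) (e : S), e * a = a * e → (h d * e) * a * (h d * e)⁻¹ = d := by
        intro d e hde
        rw [_root_.mul_inv_rev, show h d * e * a * (e⁻¹ * (h d)⁻¹) = h d * (e * a * e⁻¹) * (h d)⁻¹ by group, hde,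
          mul_inv_cancel_right, hh]
      have : b = b' := Subtype.ext (by rw [← hb b c hc, ← hb b' c' hc', he])
      subst this
      obtain rfl := mul_left_cancel he
      rfl
    · let b : JSet F := ⟨g * a * g⁻¹, conj_mem_J ha g⟩
      refine ⟨(b, ⟨(h b)⁻¹ * g, ?_⟩), mul_inv_cancel_left _ _⟩
      have hb := hh b
      calc (h b)⁻¹ * g * a = (h b)⁻¹ * (g * a * g⁻¹) * g := by group
        _ = (h b)⁻¹ * (h b * a * (h b)⁻¹) * g := by rw [hb]
        _ = a * ((h b)⁻¹ * g) := by group
  rw [← Nat.card_prod, Nat.card_congr e]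

theorem card_J [Fintype F] [DecidableEq F] (h2 : (2 : F) ≠ 0) :
    Nat.card (JSet F) = (Fintype.card F - 1 + Nat.card {x : F // x ^ 2 = -1}) * Fintype.card F := by
  have det_aux : ∀ x y z : F, -(x * x) - y * z = 1 → (!![x, y; z, -x] : Mat).det = 1 := by
    intro x y z h; rw [Matrix.det_fin_two]; simp; linear_combination h
  let f : {y : F // y ≠ 0} × F ⊕ {x : F // x ^ 2 = -1} × F → JSet F := fun p =>
    match p with
    | .inl (y, x) => ⟨⟨!![x, (y : F); (-(x * x) - 1) / y, -x],
        det_aux _ _ _ (by field_simp [y.2]; ring)⟩, (trace_zero_iff h2).2 (by simp)⟩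
    | .inr (x, z) => ⟨⟨!![(x : F), 0; z, -x],
        det_aux _ _ _ (by linear_combination -x.2)⟩, (trace_zero_iff h2).2 (by simp)⟩
  have hf : Function.Bijective f := by
    constructor
    · intro p p' h
      have h1 : ∀ i j, ((f p).1 : Mat) i j = ((f p').1 : Mat) i j := fun i j => by rw [h]
      rcases p with ⟨y, x⟩ | ⟨x, z⟩ <;> rcases p' with ⟨y', x'⟩ | ⟨x', z'⟩
      · have a1 := h1 0 1; have a2 := h1 0 0
        simp [f] at a1 a2
        simp [a1, a2, Subtype.ext_iff]
      · have a1 := h1 0 1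
        simp [f] at a1
        exact absurd a1 y.2
      · have a1 := h1 0 1
        simp [f] at a1
        exact absurd a1.symm y'.2
      · have a1 := h1 1 0; have a2 := h1 0 0
        simp [f] at a1 a2
        simp [a1, a2, Subtype.ext_iff]
    · rintro ⟨a, ha⟩
      have ht := (trace_zero_iff h2).1 ha
      have hd := a.2
      rw [Matrix.det_fin_two] at hd
      have e11 : (a : Mat) 1 1 = -(a : Mat) 0 0 := by linear_combination ht
      by_cases hy : (a : Mat) 0 1 = 0
      · refine ⟨.inr (⟨(a : Mat) 0 0, by rw [hy, e11] at hd; linear_combination -hd⟩, (a : Mat) 1 0), ?_⟩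
        refine Subtype.ext (Subtype.ext ?_)
        ext i j; fin_cases i <;> fin_cases j <;> simp [f, hy, e11]
      · refine ⟨.inl (⟨(a : Mat) 0 1, hy⟩, (a : Mat) 0 0), ?_⟩
        refine Subtype.ext (Subtype.ext ?_)
        ext i j; fin_cases i <;> fin_cases j <;> simp [f, e11]
        field_simp
        rw [e11] at hd
        linear_combination hd
  rw [← Nat.card_congr (Equiv.ofBijective f hf), Nat.card_sum, Nat.card_prod, Nat.card_prod, ← add_mul,
    Nat.card_eq_fintype_card (α := F), Nat.card_eq_fintype_card (α := {y : F // y ≠ 0})]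
  simp [Fintype.card_subtype_compl]

theorem card_sqrt_neg_one [Fintype F] (h2 : (2 : F) ≠ 0) :
    (Fintype.card F % 4 = 1 → Nat.card {x : F // x ^ 2 = -1} = 2) ∧
      (Fintype.card F % 4 = 3 → Nat.card {x : F // x ^ 2 = -1} = 0) := by
  classical
  constructor
  · intro hq
    obtain ⟨i, hi⟩ := FiniteField.isSquare_neg_one_iff.2 (by omega : Fintype.card F % 4 ≠ 3)
    have : {x : F | x ^ 2 = -1} = {i, -i} := by
      ext x
      rw [Set.mem_setOf_eq, hi, sq]
      exact mul_self_eq_mul_self_iff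
    have hne : i ≠ -i := by
      intro h
      have : (2 : F) * i = 0 := by linear_combination h
      rw [(mul_eq_zero.1 this).resolve_left h2, mul_zero] at hi
      exact neg_ne_zero.2 one_ne_zero hi
    show Nat.card ↥{x : F | x ^ 2 = -1} = 2
    rw [this, Nat.card_coe_set_eq, Set.ncard_pair hne]
  · intro hq
    have : IsEmpty {x : F // x ^ 2 = -1} := ⟨fun x =>
      FiniteField.isSquare_neg_one_iff.1 ⟨x.1, by rw [← sq]; exact x.2.symm⟩ hq⟩
    exact Nat.card_of_isEmpty

/-- Elements inverting `a` again have square `-1`. -/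
theorem inverter_mem (h2 : (2 : F) ≠ 0) {a g : S} (ha : a * a = negS) (hg : g * a = negS * (a * g)) :
    g * g = negS := by
  rw [trace_zero_iff h2]
  have hm := Elusive.mul_self_two (g : Mat)
  rw [g.2, one_smul] at hm
  have hga : (g : Mat) * a = -((a : Mat) * g) := by
    rw [← Matrix.SpecialLinearGroup.coe_mul, ← Matrix.SpecialLinearGroup.coe_mul, hg, negS_mul]
  have h : ((g : Mat) * g) * a = (a : Mat) * (g * g) := by
    rw [mul_assoc, hga, mul_neg, ← mul_assoc, hga, neg_mul, neg_neg, mul_assoc]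
  rw [hm, sub_mul, mul_sub, one_mul, mul_one, sub_left_inj, smul_mul_assoc, mul_smul_comm, hga,
    smul_neg] at h
  have h0 : ((2 : F) * ((g : Mat) 0 0 + (g : Mat) 1 1)) • ((a * g : S) : Mat) = 0 := by
    rw [Matrix.SpecialLinearGroup.coe_mul, mul_smul, two_smul]
    nth_rewrite 1 [← h]
    exact neg_add_cancel _
  rcases smul_eq_zero.1 h0 with h0 | h0
  · exact (mul_eq_zero.1 h0).resolve_left h2
  · exact absurd (by rw [← (a * g : S).2, h0]; simp) (one_ne_zero (α := F))

theorem card_inverter [Fintype F] (h2 : (2 : F) ≠ 0) {a : S} (ha : a * a = negS) :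
    Nat.card {g : S // g * a = negS * (a * g)} = Nat.card {c : S // c * a = a * c} := by
  obtain ⟨w, hw⟩ := exists_conj_J h2 ha (negS_mul_mem ha)
  have hw' : w * a = negS * (a * w) := by
    rw [← mul_assoc, ← hw, inv_mul_cancel_right]
  refine Nat.card_congr
    { toFun := fun g => ⟨w⁻¹ * g.1, ?_⟩
      invFun := fun c => ⟨w * c.1, ?_⟩
      left_inv := fun g => Subtype.ext (mul_inv_cancel_left _ _)
      right_inv := fun c => Subtype.ext (inv_mul_cancel_left _ _) }
  · rw [mul_assoc, g.2, inv_mul_eq_iff_eq_mul, ← mul_assoc w a, hw']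
    simp [mul_assoc]
  · rw [mul_assoc, c.2, ← mul_assoc, hw']
    simp [mul_assoc]

variable (F) in
/-- Anticommuting pairs in `SL_2`. -/
abbrev APairs : Type _ :=
  {p : S × S // p.1 * p.1 = negS ∧ p.2 * p.2 = negS ∧ p.2 * p.1 = negS * (p.1 * p.2)}

theorem card_APairs [Fintype F] (h2 : (2 : F) ≠ 0) : Nat.card (APairs F) = Nat.card S := by
  obtain ⟨a0, ha0⟩ := exists_J (F := F)
  have hc : ∀ a : JSet F, Nat.card {g : S // g * (a : S) = negS * ((a : S) * g)} =
      Nat.card {c : S // c * a0 = a0 * c} := by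
    intro a
    rw [card_inverter h2 a.2]
    have : Nonempty (JSet F) := ⟨⟨a0, ha0⟩⟩
    have hpos : 0 < Nat.card (JSet F) := Nat.card_pos
    exact Nat.eq_of_mul_eq_mul_left hpos
      ((card_J_mul_centralizer h2 a.2).trans (card_J_mul_centralizer h2 ha0).symm)
  have e : APairs F ≃ Σ a : JSet F, {g : S // g * (a : S) = negS * ((a : S) * g)} :=
    { toFun := fun p => ⟨⟨p.1.1, p.2.1⟩, ⟨p.1.2, p.2.2.2⟩⟩
      invFun := fun x => ⟨(x.1.1, x.2.1), x.1.2, inverter_mem h2 x.1.2 x.2.2, x.2.2⟩
      left_inv := fun p => rfl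
      right_inv := fun x => rfl }
  have := Fintype.ofFinite (JSet F)
  rw [Nat.card_congr e, Nat.card_sigma, Finset.sum_congr rfl (fun a _ => hc a), Finset.sum_const,
    smul_eq_mul, Finset.card_univ, ← Nat.card_eq_fintype_card, card_J_mul_centralizer h2 ha0]

theorem lift_involution (h2 : (2 : F) ≠ 0) {a : S} (h : (QuotientGroup.mk a : G) * QuotientGroup.mk a = 1)
    (h1 : (QuotientGroup.mk a : G) ≠ 1) : a * a = negS := by
  rw [← QuotientGroup.mk_mul, mk_eq_one] at h
  rcases h with h | h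
  · rcases eq_one_or_negS h2 h with h' | h' <;> exact absurd (mk_eq_one.2 (by simp [h'])) h1
  · exact h

theorem mk_involution (h2 : (2 : F) ≠ 0) {a : S} (ha : a * a = negS) :
    (QuotientGroup.mk a : G) * QuotientGroup.mk a = 1 ∧ (QuotientGroup.mk a : G) ≠ 1 := by
  refine ⟨by rw [← QuotientGroup.mk_mul, mk_eq_one]; exact .inr ha, fun h => ?_⟩
  obtain ⟨h1, h3⟩ := J_nonscalar h2 ha
  exact (mk_eq_one.1 h).elim h1 h3

variable (F) in
/-- Ordered pairs of distinct commuting involutions in `PSL_2`. -/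
abbrev IPairs : Type _ :=
  {p : G × G // (p.1 * p.1 = 1 ∧ p.1 ≠ 1) ∧ (p.2 * p.2 = 1 ∧ p.2 ≠ 1) ∧ p.1 ≠ p.2 ∧ p.1 * p.2 = p.2 * p.1}

theorem anticomm_of_pair (h2 : (2 : F) ≠ 0) {a b : S} (ha : a * a = negS) (hb : b * b = negS)
    (hne : (QuotientGroup.mk a : G) ≠ QuotientGroup.mk b)
    (hc : (QuotientGroup.mk a : G) * QuotientGroup.mk b = QuotientGroup.mk b * QuotientGroup.mk a) :
    b * a = negS * (a * b) := by
  rw [← QuotientGroup.mk_mul, ← QuotientGroup.mk_mul, mk_eq_iff] at hc
  refine hc.resolve_left fun h => hne ?_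
  have hsq : (a * b) * (a * b) = 1 := by
    rw [show (a * b) * (a * b) = a * (b * a) * b by group, h,
      show a * (a * b) * b = (a * a) * (b * b) by group, ha, hb, negS_sq]
  have hinv : a⁻¹ = negS * a := inv_eq_of_mul_eq_one_right (by
    rw [← mul_assoc, mul_negS, mul_assoc, ha, negS_sq])
  rw [mk_eq_iff]
  rcases eq_one_or_negS h2 hsq with e | e
  · right; rw [← hinv]; exact (inv_eq_of_mul_eq_one_right e).symm
  · left
    rw [← inv_mul_cancel_left a b, e, hinv, mul_assoc, mul_negS, ← mul_assoc, negS_sq, one_mul]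

theorem card_IPairs [Fintype F] (h2 : (2 : F) ≠ 0) : 4 * Nat.card (IPairs F) = Nat.card S := by
  classical
  rw [← card_APairs h2]
  let σ : Bool → S := fun s => bif s then negS else 1
  have hσ : ∀ s {a : S}, a * a = negS → (σ s * a) * (σ s * a) = negS ∧
      (QuotientGroup.mk (σ s * a) : G) = QuotientGroup.mk a := by
    intro s a ha
    cases s
    · simp [σ, ha]
    · exact ⟨negS_mul_mem ha, (mk_eq_iff.2 (.inr rfl)).symm⟩
  choose l hl using fun x : G => QuotientGroup.mk_surjective x
  have hlJ : ∀ p : IPairs F, l p.1.1 * l p.1.1 = negS ∧ l p.1.2 * l p.1.2 = negS := fun p =>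
    ⟨lift_involution h2 (by rw [hl]; exact p.2.1.1) (by rw [hl]; exact p.2.1.2),
      lift_involution h2 (by rw [hl]; exact p.2.2.1.1) (by rw [hl]; exact p.2.2.1.2)⟩
  let f : IPairs F × Bool × Bool → APairs F := fun x =>
    ⟨(σ x.2.1 * l x.1.1.1, σ x.2.2 * l x.1.1.2), (hσ _ (hlJ x.1).1).1, (hσ _ (hlJ x.1).2).1,
      anticomm_of_pair h2 (hσ _ (hlJ x.1).1).1 (hσ _ (hlJ x.1).2).1
        (by rw [(hσ _ (hlJ x.1).1).2, (hσ _ (hlJ x.1).2).2, hl, hl]; exact x.1.2.2.2.1)
        (by rw [(hσ _ (hlJ x.1).1).2, (hσ _ (hlJ x.1).2).2, hl, hl]; exact x.1.2.2.2.2)⟩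
  have hf : Function.Bijective f := by
    constructor
    · rintro ⟨p, s, t⟩ ⟨p', s', t'⟩ h
      have e1 : σ s * l p.1.1 = σ s' * l p'.1.1 := congrArg (fun q : APairs F => q.1.1) h
      have e2 : σ t * l p.1.2 = σ t' * l p'.1.2 := congrArg (fun q : APairs F => q.1.2) h
      have hp : p = p' := by
        refine Subtype.ext (Prod.ext ?_ ?_)
        · have := congrArg (fun g : S => (QuotientGroup.mk g : G)) e1
          simpa [(hσ s (hlJ p).1).2, (hσ s' (hlJ p').1).2, hl] using this
        · have := congrArg (fun g : S => (QuotientGroup.mk g : G)) e2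
          simpa [(hσ t (hlJ p).2).2, (hσ t' (hlJ p').2).2, hl] using this
      subst hp
      have hinj : Function.Injective σ := by
        intro u v huv
        cases u <;> cases v <;> first | rfl | exact absurd huv (by simpa [σ] using negS_ne_one h2) |
          exact absurd huv.symm (by simpa [σ] using negS_ne_one h2)
      rw [hinj (mul_right_cancel e1), hinj (mul_right_cancel e2)]
    · rintro ⟨⟨a, b⟩, ha, hb, hab⟩
      have hne : (QuotientGroup.mk a : G) ≠ QuotientGroup.mk b := by
        intro h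
        rcases mk_eq_iff.1 h with rfl | rfl
        · exact negS_mul_ne h2 _ hab.symm
        · simp only at hab
          rw [← mul_assoc a, mul_negS a] at hab
          exact negS_mul_ne h2 _ hab.symm
      have hc : (QuotientGroup.mk a : G) * QuotientGroup.mk b = QuotientGroup.mk b * QuotientGroup.mk a := by
        rw [← QuotientGroup.mk_mul, ← QuotientGroup.mk_mul, mk_eq_iff]; exact .inr hab
      let p : IPairs F := ⟨(QuotientGroup.mk a, QuotientGroup.mk b), mk_involution h2 ha,
        mk_involution h2 hb, hne, hc⟩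
      have hs : ∀ c : S, ∃ s, σ s * l (QuotientGroup.mk c) = c := by
        intro c
        rcases mk_eq_iff.1 (hl (QuotientGroup.mk c)) with h | h
        · exact ⟨false, by simp only [σ, cond_false, one_mul]; exact h.symm⟩
        · exact ⟨true, h.symm⟩
      obtain ⟨s, hs1⟩ := hs a
      obtain ⟨t, ht1⟩ := hs b
      exact ⟨(p, s, t), Subtype.ext (Prod.ext hs1 ht1)⟩
  rw [← Nat.card_congr (Equiv.ofBijective f hf), Nat.card_prod, Nat.card_prod]
  simp [mul_comm]

/-- The Klein four-subgroup of two commuting involutions. -/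
def fourOf {H : Type*} [Group H] (x y : H) (hx : x * x = 1) (hy : y * y = 1) (hc : x * y = y * x) :
    Subgroup H where
  carrier := {1, x, y, x * y}
  one_mem' := by simp
  inv_mem' := by
    intro z hz
    simp only [Set.mem_insert_iff, Set.mem_singleton_iff] at hz ⊢
    have ix : x⁻¹ = x := inv_eq_of_mul_eq_one_right hx
    have iy : y⁻¹ = y := inv_eq_of_mul_eq_one_right hy
    rcases hz with rfl | rfl | rfl | rfl <;> simp [ix, iy, hc]
  mul_mem' := by
    intro z w hz hw
    simp only [Set.mem_insert_iff, Set.mem_singleton_iff] at hz hw ⊢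
    have e1 : y * (x * y) = x := by rw [hc, ← mul_assoc, hy, one_mul]
    have e2 : x * (x * y) = y := by rw [← mul_assoc, hx, one_mul]
    have e3 : x * y * x = y := by rw [hc, mul_assoc, hx, mul_one]
    have e4 : x * y * y = x := by rw [mul_assoc, hy, mul_one]
    have e5 : x * y * (x * y) = 1 := by rw [← mul_assoc, e3, hy]
    rcases hz with rfl | rfl | rfl | rfl <;> rcases hw with rfl | rfl | rfl | rfl <;>
      simp [hx, hy, e1, e2, e3, e4, e5, hc.symm]

theorem mem_fourOf {H : Type*} [Group H] {x y z : H} {hx : x * x = 1} {hy : y * y = 1}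
    {hc : x * y = y * x} : z ∈ fourOf x y hx hy hc ↔ z = 1 ∨ z = x ∨ z = y ∨ z = x * y := Iff.rfl

theorem isKleinFour_fourOf {H : Type*} [Group H] {x y : H} {hx : x * x = 1} {hy : y * y = 1}
    {hc : x * y = y * x} (hx1 : x ≠ 1) (hy1 : y ≠ 1) (hxy : x ≠ y) :
    IsKleinFour (fourOf x y hx hy hc) := by
  have h4 : Nat.card (fourOf x y hx hy hc) = 4 := by
    show Nat.card ↥({1, x, y, x * y} : Set H) = 4
    have a3 : x * y ≠ 1 := fun h => hxy (mul_left_cancel (hx.trans h.symm))
    rw [Nat.card_coe_set_eq, Set.ncard_insert_of_notMem, Set.ncard_insert_of_notMem,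
      Set.ncard_pair] <;>
      simp [Ne.symm hx1, Ne.symm hy1, Ne.symm a3, hxy, hy1, hx1, mul_eq_left, mul_eq_right]
  refine ⟨h4, Nat.Prime.eq_one_or_self_of_dvd Nat.prime_two _ ?_ |>.resolve_left ?_⟩
  · refine Monoid.exponent_dvd_of_forall_pow_eq_one fun z => Subtype.ext ?_
    rcases mem_fourOf.1 z.2 with h | h | h | h <;> rw [pow_two, Subgroup.coe_mul, h, Subgroup.coe_one]
    · exact one_mul 1
    · exact hx
    · exact hy
    · rw [mul_assoc, ← mul_assoc y, ← hc, mul_assoc x y y, hy, mul_one, hx]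
  · rw [Monoid.exp_eq_one_iff]
    intro h
    exact hx1 (congrArg Subtype.val (h.allEq ⟨x, mem_fourOf.2 (.inr (.inl rfl))⟩ 1))

variable (F) in
/-- Klein four-subgroups of `PSL_2`. -/
abbrev KleinFours : Type _ := {V : Subgroup G // IsKleinFour V}

theorem klein_sq {H : Type*} [Group H] {V : Subgroup H} (hV : IsKleinFour V) {z : H} (hz : z ∈ V) :
    z * z = 1 := by
  have := Monoid.pow_exponent_eq_one (⟨z, hz⟩ : V)
  rw [hV.exponent_two, pow_two] at this
  simpa using congrArg Subtype.val this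

theorem klein_comm {H : Type*} [Group H] {V : Subgroup H} (hV : IsKleinFour V) {y z : H} (hy : y ∈ V)
    (hz : z ∈ V) : y * z = z * y := by
  have h1 : ∀ w ∈ V, w⁻¹ = w := fun w hw => inv_eq_of_mul_eq_one_right (klein_sq hV hw)
  calc y * z = (y * z)⁻¹ := (h1 _ (mul_mem hy hz)).symm
    _ = z * y := by rw [_root_.mul_inv_rev, h1 y hy, h1 z hz]

theorem klein_exists_gens {H : Type*} [Group H] {V : Subgroup H} (hV : IsKleinFour V) :
    ∃ x y, x ∈ V ∧ y ∈ V ∧ x ≠ 1 ∧ y ≠ 1 ∧ x ≠ y := by
  classical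
  have : Finite V := Nat.finite_of_card_ne_zero (by rw [hV.card_four]; norm_num)
  have : Fintype V := Fintype.ofFinite _
  have h4 : Fintype.card V = 4 := by rw [← Nat.card_eq_fintype_card, hV.card_four]
  obtain ⟨x, hx⟩ := Fintype.exists_ne_of_one_lt_card (by omega) (1 : V)
  obtain ⟨y, hy⟩ : ∃ y, y ∉ ({1, x} : Finset V) := by
    by_contra hc
    push Not at hc
    have := (Finset.card_le_card (fun k _ => hc k : (Finset.univ : Finset V) ⊆ {1, x})).trans Finset.card_le_two
    simp [h4] at this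
  simp only [Finset.mem_insert, Finset.mem_singleton, not_or] at hy
  exact ⟨x, y, x.2, y.2, fun h => hx (Subtype.ext h), fun h => hy.1 (Subtype.ext h),
    fun h => hy.2 (Subtype.ext h.symm)⟩

theorem klein_eq_fourOf {H : Type*} [Group H] {V : Subgroup H} (hV : IsKleinFour V) {x y : H}
    (hx : x ∈ V) (hy : y ∈ V) (hx1 : x ≠ 1) (hy1 : y ≠ 1) (hxy : x ≠ y) :
    V = fourOf x y (klein_sq hV hx) (klein_sq hV hy) (klein_comm hV hx hy) := by
  have : Finite V := Nat.finite_of_card_ne_zero (by rw [hV.card_four]; norm_num)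
  refine (Subgroup.eq_of_le_of_card_ge ?_ ?_).symm
  · intro z hz
    rcases mem_fourOf.1 hz with rfl | rfl | rfl | rfl
    · exact one_mem V
    · exact hx
    · exact hy
    · exact mul_mem hx hy
  · rw [hV.card_four]
    exact le_of_eq (isKleinFour_fourOf (hc := klein_comm hV hx hy) hx1 hy1 hxy).card_four.symm

theorem card_kleinFours [Fintype F] (h2 : (2 : F) ≠ 0) :
    24 * Nat.card (KleinFours F) = Nat.card S := by
  classical
  rw [← card_IPairs h2]
  have e : IPairs F ≃ Σ V : KleinFours F,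
      {p : (V.1 : Subgroup G) × (V.1 : Subgroup G) // p.1 ≠ 1 ∧ p.2 ≠ 1 ∧ p.1 ≠ p.2} := by
    refine (Equiv.ofBijective (fun x => ?_) ⟨?_, ?_⟩).symm
    · exact ⟨((x.2.1.1 : G), (x.2.1.2 : G)), ⟨klein_sq x.1.2 x.2.1.1.2, fun h => x.2.2.1 (Subtype.ext h)⟩,
        ⟨klein_sq x.1.2 x.2.1.2.2, fun h => x.2.2.2.1 (Subtype.ext h)⟩, fun h => x.2.2.2.2 (Subtype.ext h),
        klein_comm x.1.2 x.2.1.1.2 x.2.1.2.2⟩
    · rintro ⟨⟨V, hV⟩, ⟨⟨a, b⟩, h1, h3, h4⟩⟩ ⟨⟨W, hW⟩, ⟨⟨c, d⟩, k1, k3, k4⟩⟩ h
      have e1 : (a : G) = c := congrArg (fun q : IPairs F => q.1.1) h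
      have e2 : (b : G) = d := congrArg (fun q : IPairs F => q.1.2) h
      have hVW : V = W := by
        rw [klein_eq_fourOf hV a.2 b.2 (fun e => h1 (Subtype.ext e)) (fun e => h3 (Subtype.ext e))
            (fun e => h4 (Subtype.ext e)),
          klein_eq_fourOf hW c.2 d.2 (fun e => k1 (Subtype.ext e)) (fun e => k3 (Subtype.ext e))
            (fun e => k4 (Subtype.ext e))]
        simp only [e1, e2]
      subst hVW
      obtain rfl : a = c := Subtype.ext e1
      obtain rfl : b = d := Subtype.ext e2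
      rfl
    · rintro ⟨⟨x, y⟩, ⟨hx, hx1⟩, ⟨hy, hy1⟩, hxy, hc⟩
      exact ⟨⟨⟨fourOf x y hx hy hc, isKleinFour_fourOf hx1 hy1 hxy⟩,
        ⟨((⟨x, mem_fourOf.2 (.inr (.inl rfl))⟩ : ↥(fourOf x y hx hy hc)),
          (⟨y, mem_fourOf.2 (.inr (.inr (.inl rfl)))⟩ : ↥(fourOf x y hx hy hc))),
          fun h => hx1 (congrArg Subtype.val h), fun h => hy1 (congrArg Subtype.val h),
          fun h => hxy (congrArg Subtype.val h)⟩⟩, Subtype.ext rfl⟩
  have h6 : ∀ V : KleinFours F,
      Nat.card {p : (V.1 : Subgroup G) × (V.1 : Subgroup G) // p.1 ≠ 1 ∧ p.2 ≠ 1 ∧ p.1 ≠ p.2} = 6 := by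
    intro V
    have h4 : Fintype.card (V.1 : Subgroup G) = 4 := by rw [← Nat.card_eq_fintype_card, V.2.card_four]
    let E := Fintype.equivFinOfCardEq h4
    rw [Nat.card_congr (Equiv.subtypeEquiv (E.prodCongr E)
      (q := fun p : Fin 4 × Fin 4 => p.1 ≠ E 1 ∧ p.2 ≠ E 1 ∧ p.1 ≠ p.2) (fun p => by simp))]
    generalize E 1 = i
    rw [Nat.card_eq_fintype_card]
    revert i
    decide
  rw [Nat.card_congr e, Nat.card_sigma, Finset.sum_congr rfl (fun V _ => h6 V), Finset.sum_const,
    smul_eq_mul, Finset.card_univ, ← Nat.card_eq_fintype_card]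
  ring

/-- An element centralising a four-group of `PSL_2` lies in it. -/
theorem mem_of_centralizes (h2 : (2 : F) ≠ 0) {V : Subgroup G} (hV : IsKleinFour V) {g : G}
    (hg : ∀ v ∈ V, g * v = v * g) : g ∈ V := by
  obtain ⟨x, y, hx, hy, hx1, hy1, hxy⟩ := klein_exists_gens hV
  obtain ⟨a, rfl⟩ := QuotientGroup.mk_surjective x
  obtain ⟨b, rfl⟩ := QuotientGroup.mk_surjective y
  obtain ⟨c, rfl⟩ := QuotientGroup.mk_surjective g
  have ha := lift_involution h2 (klein_sq hV hx) hx1
  have hb := lift_involution h2 (klein_sq hV hy) hy1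
  have hab := anticomm_of_pair h2 ha hb hxy (klein_comm hV hx hy)
  have hba : a * b = negS * (b * a) := by rw [hab, ← mul_assoc, negS_sq, one_mul]
  have key : ∀ {u v : S}, (QuotientGroup.mk u : G) ∈ V → c * u = u * c ∨ c * u = negS * (u * c) := by
    intro u v hu
    have h := hg _ hu
    rw [← QuotientGroup.mk_mul, ← QuotientGroup.mk_mul] at h
    rcases mk_eq_iff.1 h.symm with h | h
    · exact .inl h
    · exact .inr h
  have fin : ∀ d : S, d * a = a * d → d * b = b * d → d = 1 ∨ d = negS := by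
    intro d h1 h3
    by_contra hd
    push Not at hd
    have hns : ∀ z : F, (d : Mat) ≠ z • (1 : Mat) := by
      intro z hz
      have hz2 : z ^ 2 = 1 := by
        have := d.2
        rwa [hz, Matrix.det_smul, Matrix.det_one, mul_one, Fintype.card_fin] at this
      rcases sq_eq_one_iff.1 hz2 with rfl | rfl
      · exact hd.1 (Subtype.ext (by rw [hz, one_smul, Matrix.SpecialLinearGroup.coe_one]))
      · exact hd.2 (Subtype.ext (by rw [hz, neg_one_smul, negS_coe]))
    have := Elusive.commute_of_commute_two (M := (a : Mat)) (N := (b : Mat)) hns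
      (by rw [← Matrix.SpecialLinearGroup.coe_mul, h1, Matrix.SpecialLinearGroup.coe_mul])
      (by rw [← Matrix.SpecialLinearGroup.coe_mul, h3, Matrix.SpecialLinearGroup.coe_mul] :
        (d : Mat) * (b : Mat) = (b : Mat) * d)
    have h' : b * a = a * b := Subtype.ext (by
      rw [Matrix.SpecialLinearGroup.coe_mul, Matrix.SpecialLinearGroup.coe_mul, this])
    rw [h'] at hab
    exact negS_mul_ne h2 _ hab.symm
  have conclude : ∀ d : S, d = 1 ∨ d = negS → (QuotientGroup.mk d : G) = 1 := fun d h => mk_eq_one.2 h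
  have hflip : ∀ {u v w : S}, v * u = negS * (u * v) → w * u = negS * (u * w) → (v * w) * u = u * (v * w) := by
    intro u v w hv hw
    rw [mul_assoc, hw, ← mul_assoc v, mul_negS v, mul_assoc negS v, ← mul_assoc v u w, hv]
    simp only [← mul_assoc, negS_sq, one_mul]
  have hkeep : ∀ {u v w : S}, v * u = u * v → w * u = u * w → (v * w) * u = u * (v * w) := by
    intro u v w hv hw
    rw [mul_assoc, hw, ← mul_assoc, hv, mul_assoc]
  rcases key (v := a) hx with h1 | h1 <;> rcases key (v := b) hy with h3 | h3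
  · rw [conclude c (fin c h1 h3)]; exact one_mem V
  · have h := conclude (a * c) (fin (a * c) (hkeep rfl h1) (hflip hba h3))
    rw [QuotientGroup.mk_mul] at h
    rw [eq_inv_of_mul_eq_one_right h]
    exact inv_mem hx
  · have h := conclude (b * c) (fin (b * c) (hflip hab h1) (hkeep rfl h3))
    rw [QuotientGroup.mk_mul] at h
    rw [eq_inv_of_mul_eq_one_right h]
    exact inv_mem hy
  · have hab' : (a * b) * a = negS * (a * (a * b)) := by
      rw [mul_assoc, hab, ← mul_assoc, mul_negS, mul_assoc]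
    have hbb : (a * b) * b = negS * (b * (a * b)) := by
      rw [← mul_assoc b a b, hab, mul_assoc negS (a * b) b, ← mul_assoc negS negS, negS_sq, one_mul]
    have h := conclude (a * b * c) (fin (a * b * c) (hflip hab' h1) (hflip hbb h3))
    rw [QuotientGroup.mk_mul, QuotientGroup.mk_mul] at h
    rw [eq_inv_of_mul_eq_one_right h]
    exact inv_mem (mul_mem hx hy)

/-- The normaliser of a four-group has order `4 k` with `k ∣ 6`. -/
theorem card_normalizer_klein [Fintype F] (h2 : (2 : F) ≠ 0) {V : Subgroup G} (hV : IsKleinFour V) :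
    ∃ k, k ∣ 6 ∧ Nat.card (Subgroup.normalizer (V : Set G)) = 4 * k := by
  classical
  let N := Subgroup.normalizer (V : Set G)
  let ρ : ↥N →* Equiv.Perm {v : V // v ≠ 1} :=
    MonoidHom.mk' (fun n =>
      { toFun := fun v => ⟨⟨n * v.1 * (n : G)⁻¹, (Subgroup.mem_normalizer_iff.1 n.2 _).1 v.1.2⟩, fun h => v.2
          (Subtype.ext (by simpa using congrArg Subtype.val h))⟩
        invFun := fun v => ⟨⟨(n : G)⁻¹ * v.1 * n, by
            have := (Subgroup.mem_normalizer_iff.1 (inv_mem n.2) _).1 v.1.2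
            simpa using this⟩, fun h => v.2 (Subtype.ext (by
            have := congrArg Subtype.val h
            simp only [Subgroup.coe_one] at this
            rw [mul_eq_one_iff_eq_inv, inv_mul_eq_iff_eq_mul, mul_inv_cancel] at this
            simpa using this))⟩
        left_inv := fun v => Subtype.ext (Subtype.ext (by simp [mul_assoc]))
        right_inv := fun v => Subtype.ext (Subtype.ext (by simp [mul_assoc])) })
      fun a b => Equiv.ext fun v => Subtype.ext (Subtype.ext (by simp [mul_assoc]))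
  have hρ : ∀ n v, (((ρ n v).1 : V) : G) = n * v.1 * (n : G)⁻¹ := fun n v => rfl
  have hker : ρ.ker = V.subgroupOf N := by
    ext n
    rw [MonoidHom.mem_ker, Subgroup.mem_subgroupOf]
    constructor
    · intro h
      refine mem_of_centralizes h2 hV fun v hv => ?_
      by_cases h1 : v = 1
      · subst h1; simp
      · have := congrArg (fun e : Equiv.Perm {v : V // v ≠ 1} =>
          (((e ⟨⟨v, hv⟩, fun e => h1 (congrArg Subtype.val e)⟩).1 : V) : G)) h
        simp only [hρ, Equiv.Perm.one_apply] at this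
        exact mul_inv_eq_iff_eq_mul.1 this
    · intro hn
      refine Equiv.ext fun v => Subtype.ext (Subtype.ext ?_)
      rw [hρ, klein_comm hV hn v.1.2, mul_inv_cancel_right]
      rfl
  have hle : V ≤ N := Subgroup.le_normalizer
  refine ⟨Nat.card ρ.range, ?_, ?_⟩
  · refine (Subgroup.card_subgroup_dvd_card _).trans (dvd_of_eq ?_)
    rw [Nat.card_perm]
    have : Nat.card {v : V // v ≠ 1} = 3 := by
      have h4 : Fintype.card V = 4 := by rw [← Nat.card_eq_fintype_card, hV.card_four]
      rw [Nat.card_eq_fintype_card, Fintype.card_subtype_compl, h4]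
      simp
    rw [this]; rfl
  · rw [Subgroup.card_eq_card_quotient_mul_card_subgroup ρ.ker,
      Nat.card_congr (QuotientGroup.quotientKerEquivRange ρ).toEquiv, hker,
      Nat.card_congr (Subgroup.subgroupOfEquivOfLe hle).toEquiv, hV.card_four, mul_comm]

/-- The conjugacy class of a subgroup. -/
theorem card_conj_class {H : Type*} [Group H] (V : Subgroup H) :
    Nat.card {W : Subgroup H // ∃ g, W = V.map (MulAut.conj g).toMonoidHom} *
      Nat.card (Subgroup.normalizer (V : Set H)) = Nat.card H := by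
  have heq : ∀ g h : H, V.map (MulAut.conj g).toMonoidHom = V.map (MulAut.conj h).toMonoidHom ↔
      g⁻¹ * h ∈ Subgroup.normalizer (V : Set H) := by
    intro g h
    rw [Subgroup.mem_normalizer_iff]
    constructor
    · intro e x
      have : h * x * h⁻¹ ∈ V.map (MulAut.conj h).toMonoidHom ↔ x ∈ V := by
        simp [Subgroup.mem_map_equiv, mul_assoc]
      rw [← this, ← e, Subgroup.mem_map_equiv]
      simp [mul_assoc]
    · intro e
      ext x
      rw [Subgroup.mem_map_equiv, Subgroup.mem_map_equiv]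
      simpa [mul_assoc] using (e (h⁻¹ * x * h)).symm
  let f : H ⧸ Subgroup.normalizer (V : Set H) → {W : Subgroup H // ∃ g, W = V.map (MulAut.conj g).toMonoidHom} :=
    Quotient.lift (fun g => ⟨V.map (MulAut.conj g).toMonoidHom, g, rfl⟩)
      fun g h hgh => Subtype.ext ((heq g h).2 (QuotientGroup.leftRel_apply.1 hgh))
  have hf : Function.Bijective f := by
    constructor
    · rintro ⟨g⟩ ⟨h⟩ e
      exact Quotient.sound (QuotientGroup.leftRel_apply.2 ((heq g h).1 (congrArg Subtype.val e)))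
    · rintro ⟨W, g, rfl⟩
      exact ⟨QuotientGroup.mk g, rfl⟩
  rw [← Nat.card_congr (Equiv.ofBijective f hf), ← Subgroup.card_eq_card_quotient_mul_card_subgroup]

theorem card_G_factor [Fintype F] (hodd : Odd (Fintype.card F)) :
    2 * Nat.card G = Fintype.card F * (Fintype.card F - 1) * (Fintype.card F + 1) ∧
      2 * Nat.card G = Nat.card S := by
  have := Linear.card_PSL_two_mul (F := F)
  rw [Linear.gcd_two_of_odd hodd] at this
  exact ⟨this, this.trans Linear.card_SL_two.symm⟩

theorem klein_exists [Fintype F] (hodd : Odd (Fintype.card F)) : Nonempty (KleinFours F) := by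
  have h2 := Linear.two_ne_zero_of_odd_card hodd
  have h := card_kleinFours h2
  have hpos : 0 < Nat.card S := Nat.card_pos
  exact (Nat.card_pos_iff.1 (by omega : 0 < Nat.card (KleinFours F))).1

end Cfsg.Agent.PSLTwo25
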